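import Cfsg.Agent.H884.ElT

/-!
# S3442, row X14: linear algebra of the centraliser of an isometry of prime order (helper375)
-/

set_option autoImplicit false

namespace Cfsg.Agent.H375.CV

open Module QuadraticMap Polynomial Cfsg.Agent.LieClassical.OrthCore Cfsg.Agent.H955 Cfsg.Agent.H954.TSing
open Cfsg.Agent.H884.El
open Cfsg.Agent.H951 (fx cm Inv Irr mem_fx mem_cm inv_fx inv_cm)

section Alg

variable {F : Type*} [Field F] [Fintype F] {V : Type*} [AddCommGroup V] [Module F V] {x g : Module.End F V}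
  {W : Submodule F V}

theorem aeval_pow_card (x : Module.End F V) (P : F[X]) (j : ℕ) :
    (aeval x P) ^ (Fintype.card F ^ j) = aeval (x ^ (Fintype.card F ^ j)) P := by
  induction j with
  | zero => simp
  | succ j ih => rw [pow_succ, pow_mul, ih, ← map_pow, ← FiniteField.expand_card, expand_aeval, ← pow_mul]

omit [Fintype F] in
theorem comm_aeval (hc : x * g = g * x) (P : F[X]) : aeval x P * g = g * aeval x P := by
  have h1 : Commute x g := hc
  induction P using Polynomial.induction_on' with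
  | add p q hp hq => rw [map_add, add_mul, mul_add, hp, hq]
  | monomial n c =>
    rw [← C_mul_X_pow_eq_monomial, map_mul, map_pow, aeval_X, aeval_C, mul_assoc, (h1.pow_left n).eq, ← mul_assoc,
      Algebra.commutes, mul_assoc]

omit [Fintype F] in
/-- the commutant of an irreducible endomorphism on a subspace. -/
theorem exists_poly_on (hc : x * g = g * x) (hW : Irr x W) (hg : Inv g W) : ∃ P : F[X], ∀ w ∈ W, g w = aeval x P w := by
  obtain ⟨w0, hw0, hne⟩ := Submodule.exists_mem_ne_zero_of_ne_bot hW.1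
  let S : Submodule F V := LinearMap.range ((LinearMap.applyₗ w0 : Module.End F V →ₗ[F] V).comp (aeval x).toLinearMap)
  have hS : ∀ v, v ∈ S ↔ ∃ P : F[X], aeval x P w0 = v := fun v => Iff.rfl
  have hSW : S ≤ W := by
    intro v hv
    obtain ⟨P, rfl⟩ := (hS v).1 hv
    exact hW.2.1.aeval P _ hw0
  have hSi : Inv x S := by
    intro v hv
    obtain ⟨P, rfl⟩ := (hS v).1 hv
    exact (hS _).2 ⟨X * P, by rw [map_mul, aeval_X, Module.End.mul_apply]⟩
  have h1 : S = W := by
    rcases hW.2.2 S hSW hSi with h | h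
    · exfalso
      apply hne
      rw [← Submodule.mem_bot F, ← h]
      exact (hS _).2 ⟨1, by rw [map_one]; rfl⟩
    · exact h
  have h2 : g w0 ∈ S := by rw [h1]; exact hg w0 hw0
  obtain ⟨P, hP⟩ := (hS _).1 h2
  refine ⟨P, fun w hw => ?_⟩
  rw [← h1] at hw
  obtain ⟨P', rfl⟩ := (hS w).1 hw
  rw [← Module.End.mul_apply, ← comm_aeval hc P', Module.End.mul_apply, ← hP, ← Module.End.mul_apply, ← Module.End.mul_apply,
    ← map_mul, ← map_mul, mul_comm]

/-- **order of the commutant** -/
theorem pow_card_on {R e : ℕ} (hx : x ^ R = 1) (hR : R ∣ Fintype.card F ^ e - 1) (hc : x * g = g * x) (hW : Irr x W)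
    (hg : Inv g W) (hinj : Function.Injective g) : ∀ w ∈ W, (g ^ (Fintype.card F ^ e - 1)) w = w := by
  obtain ⟨P, hP⟩ := exists_poly_on hc hW hg
  have hpow : ∀ (n : ℕ), ∀ w ∈ W, (g ^ n) w = (aeval x P ^ n) w := by
    intro n
    induction n with
    | zero => intro w _; rfl
    | succ n ih =>
      intro w hw
      rw [pow_succ, pow_succ, Module.End.mul_apply, Module.End.mul_apply, ← hP w hw]
      exact ih _ (hg w hw)
  have hq : 1 ≤ Fintype.card F ^ e := Nat.one_le_pow _ _ Fintype.card_pos
  have hxx : x ^ (Fintype.card F ^ e) = x := by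
    obtain ⟨k, hk⟩ := hR
    have : Fintype.card F ^ e = R * k + 1 := by omega
    rw [this, pow_succ, pow_mul, hx, one_pow, one_mul]
  intro w hw
  apply hinj
  have h1 := hpow (Fintype.card F ^ e) w hw
  rw [aeval_pow_card, hxx, ← hP w hw] at h1
  rw [← Module.End.mul_apply, ← pow_succ', Nat.sub_add_cancel hq]
  exact h1

/-- **scalars in the commutant** -/
theorem scalar_on {z : Module.End F V} (hc : x * z = z * x) (hW : Irr x W) (hz : Inv z W)
    (h : ∀ w ∈ W, (z ^ Fintype.card F) w = z w) : ∃ a : F, ∀ w ∈ W, z w = a • w := by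
  classical
  obtain ⟨w0, hw0, hne⟩ := Submodule.exists_mem_ne_zero_of_ne_bot hW.1
  have hq1 : 1 < Fintype.card F := Fintype.one_lt_card
  have hQ : (X ^ Fintype.card F - X : F[X]) ≠ 0 := FiniteField.X_pow_card_sub_X_ne_zero F hq1
  obtain ⟨P, hP, hd, u, hu, hu0, hPu⟩ := H951.exists_irreducible_factor hz (X ^ Fintype.card F - X : F[X]) hQ w0 hw0 hne (by
    rw [map_sub, map_pow, aeval_X, LinearMap.sub_apply, h w0 hw0, sub_self])
  have hprod : (((X ^ Fintype.card F - X : F[X]).roots.map fun a => X - C a).prod : F[X]) = X ^ Fintype.card F - X := by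
    apply prod_multiset_X_sub_C_of_monic_of_roots_card_eq
    · exact monic_X_pow_sub (by rw [degree_X]; exact_mod_cast hq1)
    · rw [FiniteField.roots_X_pow_card_sub_X, FiniteField.X_pow_card_sub_X_natDegree_eq F hq1]
      rfl
  rw [← hprod] at hd
  obtain ⟨f, hf, ha⟩ := hP.prime.exists_mem_multiset_dvd hd
  obtain ⟨a, -, rfl⟩ := Multiset.mem_map.1 hf
  obtain ⟨c, hc'⟩ := ha
  have h1 : z u = a • u := by
    have h2 : aeval z (X - C a) u = 0 := by
      rw [hc', mul_comm, map_mul, Module.End.mul_apply, hPu, map_zero]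
    rw [map_sub, aeval_X, aeval_C, LinearMap.sub_apply, Module.algebraMap_end_apply, sub_eq_zero] at h2
    exact h2
  let N : Submodule F V := LinearMap.ker (z - algebraMap F (Module.End F V) a)
  have hN : ∀ v, v ∈ N ↔ z v = a • v := by
    intro v
    rw [LinearMap.mem_ker, LinearMap.sub_apply, Module.algebraMap_end_apply, sub_eq_zero]
  have hNi : Inv x (W ⊓ N) := by
    intro v hv
    refine ⟨hW.2.1 v hv.1, (hN _).2 ?_⟩
    have h3 := (hN _).1 hv.2
    rw [← Module.End.mul_apply, ← hc, Module.End.mul_apply, h3, map_smul]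
  rcases hW.2.2 _ inf_le_left hNi with h3 | h3
  · exfalso
    apply hu0
    rw [← Submodule.mem_bot F, ← h3]
    exact ⟨hu, (hN u).2 h1⟩
  · refine ⟨a, fun w hw => ?_⟩
    rw [← h3] at hw
    exact (hN w).1 hw.2

end Alg

end Cfsg.Agent.H375.CV
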