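import Cfsg.Agent.H375.CV.Lin

/-!
# S3442, row X14: the centraliser of an isometry of prime order (helper375)
-/

set_option autoImplicit false

namespace Cfsg.Agent.H375.CV

open Module QuadraticMap Cfsg.Agent.LieClassical.OrthCore Cfsg.Agent.H955 Cfsg.Agent.H954.TSing
open Cfsg.Agent.H884.El Cfsg.Agent.LieClassical.OrthCount
open Cfsg.Agent.H951 (fx cm Inv Irr mem_fx mem_cm inv_fx inv_cm)

variable {F : Type*} [Field F] [Fintype F] {V : Type*} [AddCommGroup V] [Module F V] [FiniteDimensional F V]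
  {Q : QuadraticForm F V} {x J : Module.End F V} {R e : ℕ} {W : Submodule F V}

theorem irr_of_finrank (h : Iso Q x R) (hR : PP (Nat.card F) e R) (he : e ≠ 0) (hW : Inv x W) (hc : W ≤ cm x)
    (hd : finrank F W = e) : Irr x W := by
  refine ⟨?_, hW, fun U hU hUi => ?_⟩
  · rintro rfl
    rw [finrank_bot] at hd
    exact he hd.symm
  · have h1 := h.dvd hR hUi
    rw [inf_eq_left.2 (hU.trans hc)] at h1
    have h2 := Submodule.finrank_mono hU
    rcases Nat.eq_zero_or_pos (finrank F U) with h0 | h0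
    · left; exact Submodule.finrank_eq_zero.1 h0
    · right; exact Submodule.eq_of_le_of_finrank_eq hU (by have := Nat.le_of_dvd h0 h1; omega)

/-- a totally singular irreducible half of `[V, x]`, `ord` odd, is invariant under the commutant of `x`. -/
theorem inv_of_comm (hQ : Nondeg Q) (h : Iso Q x R) (he : Odd e) (hcm : finrank F (cm x) = 2 * e) (hW : Irr x W)
    (hWcm : W ≤ cm x) (hWs : TS Q W) (hWd : finrank F W = e) (hJx : x * J = J * x) : Inv J W := by
  have := Fact.mk h.prime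
  have hfin : Finite V := Module.finite_of_finite F
  have hJx' : ∀ v, x (J v) = J (x v) := fun v => by
    rw [← Module.End.mul_apply, hJx]; rfl
  by_contra hJW
  let c : LinearMap.BilinForm F V := LinearMap.BilinForm.comp (polarBilin Q) LinearMap.id J
  have hc : ∀ u v, c u v = polar Q u (J v) := fun u v => rfl
  have hinv : ∀ u v, c (x u) (x v) = c u v := by
    intro u v
    rw [hc, hc, ← hJx', polar_isom h.iso]
  have hnd : ∀ v ∈ W, (∀ u ∈ W, c u v = 0) → v = 0 := by
    let N : Submodule F V :=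
      { carrier := {v | v ∈ W ∧ ∀ u ∈ W, c u v = 0}
        add_mem' := fun {a b} ha hb => ⟨W.add_mem ha.1 hb.1, fun u hu => by
          rw [map_add, ha.2 u hu, hb.2 u hu, add_zero]⟩
        zero_mem' := ⟨W.zero_mem, fun u _ => map_zero _⟩
        smul_mem' := fun a v hv => ⟨W.smul_mem a hv.1, fun u hu => by
          rw [map_smul, hv.2 u hu, smul_zero]⟩ }
    have hNW : N ≤ W := fun v hv => hv.1
    have hNi : Inv x N := by
      rintro v ⟨hv, hv2⟩
      refine ⟨hW.2.1 v hv, fun u hu => ?_⟩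
      obtain ⟨u', hu', rfl⟩ : ∃ u' ∈ W, x u' = u := by
        refine ⟨(x ^ (R - 1)) u, hW.2.1.pow _ u hu, ?_⟩
        rw [← Module.End.mul_apply, ← pow_succ', Nat.sub_add_cancel h.prime.one_le, h.pow]
        rfl
      rw [hinv]
      exact hv2 u' hu'
    rcases hW.2.2 N hNW hNi with hN | hN
    · intro v hv hv2
      have : v ∈ N := ⟨hv, hv2⟩
      rw [hN] at this
      exact (Submodule.mem_bot F).1 this
    · exfalso
      apply hJW
      have hperp : ∀ w ∈ W, ∀ u ∈ W, polar Q u (J w) = 0 := by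
        intro w hw u hu
        rw [← hN] at hw
        exact hw.2 u hu
      have hJcm : ∀ w ∈ W, J w ∈ cm x := by
        intro w hw
        obtain ⟨y, hy⟩ := H951.mem_cm.1 (hWcm hw)
        refine H951.mem_cm.2 ⟨J y, ?_⟩
        rw [hJx', ← map_sub, hy]
      have hcmn := nondeg_cm hQ h.iso h.ne0 h.pow
      have h1 := finrank_inf_perp hcmn hWcm
      have h2 : W ≤ cm x ⊓ perp Q W := by
        intro w hw
        exact ⟨hWcm hw, fun u hu => hWs.polar hu hw⟩
      have h3 : W = cm x ⊓ perp Q W := by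
        apply Submodule.eq_of_le_of_finrank_eq h2
        omega
      intro w hw
      rw [h3]
      exact ⟨hJcm w hw, fun u hu => hperp w hw u hu⟩
  have h2 : R ≠ 2 := by have := h.two_lt; omega
  have hev := H200.LinFix.even_of_irr (l := R) h2 h.ne0 (y := x) h.pow (W := W) hWcm hW.2.1
    hW.2.2 hW.1 c (fun u _ v _ => hinv u v) hnd
  rw [hWd] at hev
  exact (Nat.not_even_iff_odd.2 he) hev

/-- the two halves. -/
theorem exists_halves (hQ : Nondeg Q) (h : Iso Q x R) (hx1 : x ≠ 1) (hR : PP (Nat.card F) e R) (he : Odd e)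
    (hn : finrank F V < 4 * e) : finrank F (cm x) = 2 * e ∧ IsPlus (res Q (cm x)) ∧ ∃ W₁ W₂ : Submodule F V,
      Irr x W₁ ∧ Irr x W₂ ∧ TS Q W₁ ∧ TS Q W₂ ∧ W₁ ≤ cm x ∧ W₂ ≤ cm x ∧ finrank F W₁ = e ∧ finrank F W₂ = e ∧
      W₁ ⊓ W₂ = ⊥ ∧ W₁ ⊔ W₂ = cm x := by
  have hrp := Fact.mk h.prime
  have he0 : e ≠ 0 := by rintro rfl; exact absurd he (by decide)
  obtain ⟨h1, h2, W₁, hW₁c, hW₁, hW₁s, hW₁d⟩ := h.odd_case hQ hx1 hR he hn
  obtain ⟨W₂, hW₂, hW₂c, hdis, hsup⟩ := H951.exists_rel_compl (H951.semisimple_of_pow h.ne0 h.pow) hW₁ inv_cm hW₁c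
  have hW₂d : finrank F W₂ = e := by
    have h3 := H951.finrank_sup_of_disj (F := F) hdis
    rw [hsup, h1, hW₁d] at h3
    omega
  have hI₁ := irr_of_finrank h hR he0 hW₁ hW₁c hW₁d
  have hI₂ := irr_of_finrank h hR he0 hW₂ hW₂c hW₂d
  have h0 : W₂ ⊓ fx x = ⊥ := H951.inf_fx_of_le_cm h.ne0 h.pow hW₂c
  refine ⟨h1, h2, W₁, W₂, hI₁, hI₂, hW₁s, ?_, hW₁c, hW₂c, hW₁d, hW₂d, hdis, hsup⟩
  rcases irr_ts_or_nondeg h.iso h.prime.pos h.pow hI₂ h0 with h3 | h3
  · exact h3
  · exfalso
    obtain ⟨U, -, -, -, hU⟩ := exists_ts_half h.iso hrp h.two_lt h.ne0 h.pow hW₂ h3 h0 (by rw [ord_eq hR]; exact he)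
    rw [hW₂d] at hU
    rw [hU] at he
    exact (Nat.not_even_iff_odd.2 he) ⟨_, two_mul _⟩

/-! ### hyperbolic planes -/

omit [Fintype F] in
/-- a hyperbolic pair in a nondegenerate plane of plus type -/
theorem exists_hyp {D : Submodule F V} (hD : Nondeg (res Q D)) (hd : finrank F D = 2) (hP : IsPlus (res Q D)) :
    ∃ a ∈ D, ∃ b ∈ D, IsHyp Q a b ∧ ∀ v ∈ D, v = polar Q v b • a + polar Q v a • b := by
  obtain ⟨U, hU, hUd⟩ := hP
  rw [hd] at hUd
  have hU0 : U ≠ ⊥ := by
    rintro rfl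
    rw [finrank_bot] at hUd
    omega
  obtain ⟨a, ha, ha0⟩ := Submodule.exists_mem_ne_zero_of_ne_bot hU0
  obtain ⟨v, hv⟩ := hD.exists_polar_ne ha0
  obtain ⟨b, h1, h2, h3⟩ := exists_partner (res Q D) (hU a ha) hv
  have h1' : Q (a : V) = 0 := h1
  have h2' : Q (b : V) = 0 := h2
  have h3' : polar Q (a : V) (b : V) = 1 := by rw [← polar_res]; exact h3
  have hba : polar Q (b : V) (a : V) = 1 := by rw [polar_comm]; exact h3'
  have haa : polar Q (a : V) (a : V) = 0 := by rw [polar_self_eq, h1', mul_zero]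
  have hbb : polar Q (b : V) (b : V) = 0 := by rw [polar_self_eq, h2', mul_zero]
  refine ⟨a, a.2, b, b.2, ⟨h1', h2', h3'⟩, ?_⟩
  have hli : LinearIndependent F ![(a : V), (b : V)] := by
    rw [LinearIndependent.pair_iff]
    intro s t hst
    have e1 := congrArg (fun z => polar Q z (b : V)) hst
    have e2 := congrArg (fun z => polar Q z (a : V)) hst
    simp only [polar_add_left, polar_smul_left, polar_zero_left, h3', hba, haa, hbb, smul_eq_mul, mul_one, mul_zero,
      add_zero, zero_add] at e1 e2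
    exact ⟨e1, e2⟩
  have hspan : Submodule.span F (Set.range ![(a : V), (b : V)]) = D := by
    apply Submodule.eq_of_le_of_finrank_eq
    · rw [Submodule.span_le]
      rintro _ ⟨i, rfl⟩
      fin_cases i
      · exact a.2
      · exact b.2
    · rw [finrank_span_eq_card hli, hd]
      rfl
  intro v hv
  rw [← hspan, Matrix.range_cons, Matrix.range_cons, Matrix.range_empty, Set.union_empty] at hv
  obtain ⟨s, t, rfl⟩ := Submodule.mem_span_pair.1 (show v ∈ Submodule.span F {(a : V), (b : V)} from hv)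
  simp only [polar_add_left, polar_smul_left, h3', hba, haa, hbb, smul_eq_mul, mul_one, mul_zero, add_zero, zero_add]

omit [Fintype F] [FiniteDimensional F V] in
/-- isometries of a hyperbolic plane -/
theorem hyp_cases {D : Submodule F V} {a b : V} (ha : a ∈ D) (hb : b ∈ D) (hab : IsHyp Q a b)
    (hD : ∀ v ∈ D, v = polar Q v b • a + polar Q v a • b) {g : Module.End F V} (hg : ∀ v, Q (g v) = Q v) (hgD : Inv g D) :
    ∃ ζ : F, ζ ≠ 0 ∧ ((g a = ζ • a ∧ g b = ζ⁻¹ • b) ∨ (g a = ζ • b ∧ g b = ζ⁻¹ • a)) := by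
  obtain ⟨h1, h2, h3⟩ := hab
  have hba : polar Q b a = 1 := by rw [polar_comm]; exact h3
  have hQ : ∀ s t : F, Q (s • a + t • b) = s * t := by
    intro s t
    rw [map_add_eq, QuadraticMap.map_smul, QuadraticMap.map_smul, h1, h2, polar_smul_left, polar_smul_right, h3]
    simp
  have hp : ∀ s t s' t' : F, polar Q (s • a + t • b) (s' • a + t' • b) = s * t' + t * s' := by
    intro s t s' t'
    have haa : polar Q a a = 0 := by rw [polar_self_eq, h1, mul_zero]
    have hbb : polar Q b b = 0 := by rw [polar_self_eq, h2, mul_zero]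
    simp only [polar_add_left, polar_smul_left, polar_add_right, polar_smul_right, h3, hba, haa, hbb, smul_eq_mul, mul_one,
      mul_zero, add_zero, zero_add]
    ring
  obtain ⟨s, t, hst⟩ : ∃ s t : F, g a = s • a + t • b := ⟨_, _, hD _ (hgD a ha)⟩
  obtain ⟨s', t', hst'⟩ : ∃ s t : F, g b = s • a + t • b := ⟨_, _, hD _ (hgD b hb)⟩
  have e1 : s * t = 0 := by rw [← hQ, ← hst, hg, h1]
  have e2 : s' * t' = 0 := by rw [← hQ, ← hst', hg, h2]
  have e3 : s * t' + t * s' = 1 := by rw [← hp, ← hst, ← hst', polar_isom hg, h3]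
  rcases mul_eq_zero.1 e1 with rfl | rfl
  · rw [zero_mul, zero_add] at e3
    have ht : t ≠ 0 := by rintro rfl; rw [zero_mul] at e3; exact zero_ne_one e3
    have hs' : s' ≠ 0 := by rintro rfl; rw [mul_zero] at e3; exact zero_ne_one e3
    have ht' : t' = 0 := (mul_eq_zero.1 e2).resolve_left hs'
    refine ⟨t, ht, Or.inr ⟨?_, ?_⟩⟩
    · rw [hst, zero_smul, zero_add]
    · rw [hst', ht', zero_smul, add_zero, eq_inv_of_mul_eq_one_right e3]
  · rw [zero_mul, add_zero] at e3
    have hs : s ≠ 0 := by rintro rfl; rw [zero_mul] at e3; exact zero_ne_one e3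
    have ht' : t' ≠ 0 := by rintro rfl; rw [mul_zero] at e3; exact zero_ne_one e3
    have hs' : s' = 0 := (mul_eq_zero.1 e2).resolve_right ht'
    refine ⟨s, hs, Or.inl ⟨?_, ?_⟩⟩
    · rw [hst, zero_smul, add_zero]
    · rw [hst', hs', zero_smul, zero_add, eq_inv_of_mul_eq_one_right e3]

end Cfsg.Agent.H375.CV
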